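import Cfsg.Agent.Omega.NO3b.Base.DZero
import Cfsg.Agent.Omega.NOThreeL.HypGFrame

/-!
# LEMMA OZ and the base point for `LocG` (seed `Z₁ = Z = Ω₁(Z(S))`)

* `oz_of_locG` : `OZ S Z B (VB S B)` for `LocG S M B`;
* `exists_opt_of_locG` : LEMMA OZ; `cent_le_of_locG` : `C_G(Z) ≤ N_G(D₀)` for a base point `D₀`.
-/

set_option autoImplicit false

namespace Cfsg.Agent.Omega.NO3b.Base

open Subgroup Cfsg
open Cfsg.Agent.ZN (o2 zc zl)
open Cfsg.Agent.Omega.NO3b.EZero (NotFF cl)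
open Cfsg.Agent.Omega.NO3b.Exit (Adm VB)
open Cfsg.Agent.Omega.NOThreeL.Star (Opt)
open Cfsg.Agent.Omega.NOThreeL.HypGFrame (LocG)

universe u

variable {G : Type u} [Group G] [Finite G] {S : Sylow 2 G} {M B : Subgroup G}

theorem oz_of_locG (h : LocG S M B) : OZ S (zc (S : Subgroup G)) B (VB (S : Subgroup G) B) where
  lines := h.adm.lines
  cs := h.adm.cs
  eq := rfl
  zZ := le_rfl
  max := fun B' hle hwc hcs hcm hsq hnf hlow hV => by
    have a : Adm S M B' := ⟨hwc, hle.trans h.adm.le, hcs, hcm, hsq, hnf, hlow⟩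
    exact (eq_of_le_of_card_ge hV (h.max B' a)).ge

/-- **LEMMA OZ** for `LocG` -/
theorem exists_opt_of_locG (h : LocG S M B) (hG : IsCharacteristicTwoType G) (hSne : (S : Subgroup G) ≠ ⊥)
    {T X : Subgroup G} (p : PanZ S B (VB (S : Subgroup G) B) T X) :
    ∃ A, Opt (cl (VB (S : Subgroup G) B) ((S : Subgroup G) ⊔ X)) A ∧ A ≤ B ∧ ¬ A ≤ o2 X :=
  p.exists_optY (oz_of_locG h) hG (NO3b.Final.stmtOff G) hSne

/-- **`C_G(Z) ≤ N_G(D₀)`** for `LocG` -/
theorem cent_le_of_locG (h : LocG S M B) (hG : IsCharacteristicTwoType G) (hSne : (S : Subgroup G) ≠ ⊥)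
    {D₀ : Subgroup G} (q : Pt S (VB (S : Subgroup G) B) D₀) :
    centralizer (zc (S : Subgroup G) : Set G) ≤ normalizer (D₀ : Set G) :=
  q.cent_le_of_oz (oz_of_locG h) FFBr.ffthm hG (NO3b.Final.stmtOff G) hSne

end Cfsg.Agent.Omega.NO3b.Base
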