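import Cfsg.Agent.Omega.NO3b.Base.SitR
import Cfsg.Agent.Omega.NO3b.TheoremL.TwoLine

/-!
# The bridge group → module for THEOREM L with two lines (#22211 (5))

`SitW V L F T X K U` : `X` is a minimal parabolic over `T` with the maximal subgroup `K` over `T`, `X` acts on `U ≥ V`,
`F ≤ L ≤ V`, `T` normalises `V`, `K` normalises `L`, `V ∩ V^x ≤ F` for `x ∈ X - K`. `SitW.datW` : the input of
`TheoremL/TwoLine.lean`; `SitW.eq` : `V = L` if an optimal offender `A ≤ T` of `U` does not lie in `O₂(X)`.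
-/

set_option autoImplicit false

namespace Cfsg.Agent.Omega.NO3b.Base

open Subgroup Cfsg
open Cfsg.Agent.ZN (o2 zc zl)
open Cfsg.Agent.ZN.ChoiceBase (cj mem_cj cj_mono cj_eq_of_mem_normalizer mem_normalizer_iff_cj)
open Cfsg.Agent.ZN.ChoiceSit (Syl syl_iff syl_not_dvd o2_le_syl)
open Cfsg.Agent.MinSimple.MinParabolic (IsMinPar)
open Cfsg.Agent.MinSimple.VModule (oddGen oddGen_le le_normalizer_o2 o2_isPGroup le_o2 o2_le)
open Cfsg.Agent.Omega.FF.Basic (fx mm EA)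
open Cfsg.Agent.Omega.NO3b.EZero (NotFF Par oddGen_sup_syl)
open Cfsg.Agent.Omega.NO3b.Exit
open Cfsg.Agent.Omega.NO3b.Exit.Bridge
open Cfsg.Agent.Omega.NO3b.Exit.TT (cf nf mem_cf mem_nf mem_smul)
open Cfsg.Agent.Omega.FFBr (XX pr im mem_im card_im coe_pr_smul pr_eq_one pr_surjective)
open Cfsg.Agent.Omega.NOThreeL.Star (Opt Ok ff)
open Cfsg.Agent.Omega.NO3b.TheoremL.Tight (DatU MBU TightAt Tight)
open Cfsg.Agent.Omega.NO3b.TheoremL.TwoLine (DatW)
open scoped Pointwise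

universe u

variable {G : Type u} [Group G]

/-- THEOREM L with two lines, in the group. -/
structure SitW (V L F T X K U : Subgroup G) [Finite G] : Prop where
  cm : U ≤ centralizer (U : Set G)
  sq : ∀ u ∈ U, u ^ 2 = 1
  VU : V ≤ U
  XU : X ≤ normalizer (U : Set G)
  LV : L ≤ V
  FL : F ≤ L
  nz : ¬ L ≤ F
  XF : X ≤ centralizer (F : Set G)
  syl : Syl T X
  mp : IsMinPar T X
  TV : T ≤ normalizer (V : Set G)
  TK : T ≤ K
  KX : K ≤ X
  KL : K ≤ normalizer (L : Set G)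
  cK : X ⊓ centralizer (U : Set G) ≤ K
  nK : ¬ X ≤ K
  min : ∀ M : Subgroup G, T ≤ M → M ≤ X → M ≠ X → M ≤ K
  ti : ∀ x ∈ X, x ∉ K → V ⊓ cj x V ≤ F
  nffV : ∀ A : Subgroup G, A ≤ T → (∀ a ∈ A, a ^ 2 ∈ centralizer (V : Set G)) →
    (∀ a ∈ A, ∀ b ∈ A, a * b * a⁻¹ * b⁻¹ ∈ centralizer (V : Set G)) → ¬ A ≤ centralizer (V : Set G) →
    (centralizer (V : Set G)).relIndex A < (centralizer (A : Set G)).relIndex V
  nffL : ∀ A : Subgroup G, A ≤ T → (∀ a ∈ A, ∀ v ∈ V, a * v * a⁻¹ * v⁻¹ ∈ F) → ¬ A ≤ centralizer (L : Set G) →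
    (centralizer (L : Set G)).relIndex A < (centralizer (A : Set G)).relIndex L

variable {H U X : Subgroup G} (h : H ≤ normalizer (U : Set G)) (hX : X ≤ H)
variable {hc : U ≤ centralizer (U : Set G)}
variable [Finite G] {V L F T K : Subgroup G}

include hX in
/-- from `relIndex` to cardinals of the images -/
theorem card_bar {W A₀ : Subgroup G} (hW : W ≤ U) (hA₀X : A₀ ≤ X)
    (h1 : (centralizer (W : Set G)).relIndex A₀ < (centralizer (A₀ : Set G)).relIndex W) :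
    Nat.card (imx h X A₀) * Nat.card ↥(ad hc W ⊓ fx (MU hc) (imx h X A₀)) <
      Nat.card (ad hc W) * Nat.card ↥(imx h X A₀ ⊓ cf ↥(im h X) (ad hc W)) := by
  have e1 : ad hc W ⊓ fx (MU hc) (imx h X A₀) = ad hc (W ⊓ centralizer (A₀ : Set G)) := by
    rw [fx_imx h hA₀X hX, ad_inf]
  have e2 : imx h X A₀ ⊓ cf ↥(im h X) (ad hc W) = imx h X (A₀ ⊓ centralizer (W : Set G)) := by
    ext y
    constructor
    · rintro ⟨h2, h3⟩
      obtain ⟨x, hx, rfl⟩ := exists_of_mem_imx h hX hA₀X h2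
      exact phi_mem_imx h hX ⟨hx, (phi_mem_cf_iff h hX hW).1 h3⟩
    · intro h2
      obtain ⟨x, hx, rfl⟩ := exists_of_mem_imx h hX (inf_le_left.trans hA₀X) h2
      exact ⟨phi_mem_imx h hX hx.1, (phi_mem_cf_iff h hX hW).2 hx.2⟩
  rw [e1, e2, card_ad_of_le (inf_le_left.trans hW), card_ad_of_le hW]
  have c1 := card_imx h hA₀X hX
  have c2 := card_imx h (inf_le_left.trans hA₀X : A₀ ⊓ centralizer (W : Set G) ≤ X) hX
  have e3 : A₀ ⊓ centralizer (W : Set G) ⊓ centralizer (U : Set G) = A₀ ⊓ centralizer (U : Set G) := by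
    rw [inf_assoc, inf_eq_right.2 (centralizer_le hW)]
  rw [e3] at c2
  have r1 := NOThreeL.Star.rel_mul_card A₀ (centralizer (W : Set G))
  have r2 := NOThreeL.Star.rel_mul_card W (centralizer (A₀ : Set G))
  have p0 : 0 < Nat.card ↥(A₀ ⊓ centralizer (U : Set G)) := Nat.card_pos
  have p1 : 0 < Nat.card ↥(A₀ ⊓ centralizer (W : Set G)) := Nat.card_pos
  have p2 : 0 < Nat.card ↥(W ⊓ centralizer (A₀ : Set G)) := Nat.card_pos
  refine lt_of_mul_lt_mul_right ?_ p0.le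
  calc Nat.card (imx h X A₀) * Nat.card ↥(W ⊓ centralizer (A₀ : Set G)) * Nat.card ↥(A₀ ⊓ centralizer (U : Set G))
      = (Nat.card (imx h X A₀) * Nat.card ↥(A₀ ⊓ centralizer (U : Set G))) *
          Nat.card ↥(W ⊓ centralizer (A₀ : Set G)) := by ring
    _ = (centralizer (W : Set G)).relIndex A₀ *
          (Nat.card ↥(A₀ ⊓ centralizer (W : Set G)) * Nat.card ↥(W ⊓ centralizer (A₀ : Set G))) := by
        rw [c1, ← r1]; ring
    _ < (centralizer (A₀ : Set G)).relIndex W *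
          (Nat.card ↥(A₀ ⊓ centralizer (W : Set G)) * Nat.card ↥(W ⊓ centralizer (A₀ : Set G))) :=
        Nat.mul_lt_mul_of_pos_right h1 (Nat.mul_pos p1 p2)
    _ = Nat.card W * Nat.card ↥(A₀ ⊓ centralizer (W : Set G)) := by rw [← r2]; ring
    _ = _ := by rw [← c2]; ring

namespace SitW

variable (s : SitW V L F T X K U)
include s

theorem two (w : MU s.cm) : w + w = 0 := by
  apply val_inj
  rw [val_add, val_zero, ← pow_two]
  exact s.sq _ (val_mem w)

include hX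

/-- the Sylow 2-subgroup `T̄` -/
theorem exists_syl : ∃ P : Sylow 2 ↥(im h X), (P : Subgroup ↥(im h X)) = imx h X T := by
  have hfact : Fact (Nat.Prime 2) := ⟨Nat.prime_two⟩
  obtain ⟨P, hP⟩ := syl_iff.1 s.syl
  refine ⟨P.mapSurjective (phi_surjective h hX), ?_⟩
  rw [Sylow.coe_mapSurjective, imx_eq_map h hX s.syl.1]
  congr 1
  rw [← hP]
  exact (comap_map_eq_self_of_injective X.subtype_injective _).symm

/-- lifting a subgroup of `T̄` to `T` -/
theorem exists_lift {P : Sylow 2 ↥(im h X)} (hP : (P : Subgroup ↥(im h X)) = imx h X T) {A : Subgroup ↥(im h X)}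
    (hA : A ≤ P) : ∃ A₀ ≤ T, A = imx h X A₀ ∧ ∀ x : X, (x : G) ∈ A₀ → phi h hX x ∈ A := by
  refine ⟨T ⊓ (A.comap (phi h hX)).map X.subtype, inf_le_left, ?_, ?_⟩
  · ext y
    constructor
    · intro hy
      obtain ⟨x, hx, rfl⟩ := exists_of_mem_imx h hX s.syl.1 (hP ▸ hA hy)
      exact phi_mem_imx h hX ⟨hx, ⟨x, hy, rfl⟩⟩
    · intro hy
      obtain ⟨x, hx, rfl⟩ := exists_of_mem_imx h hX (inf_le_left.trans s.syl.1) hy
      obtain ⟨x', hx', h1⟩ := hx.2
      rwa [Subtype.ext h1] at hx'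
  · rintro x ⟨-, x', hx', h1⟩
    rwa [Subtype.ext h1] at hx'

theorem mem_K {x : X} (hx : phi h hX x ∈ imx h X K) : (x : G) ∈ K := by
  obtain ⟨k, hk, hkx⟩ := exists_of_mem_imx h hX s.KX hx
  have h1 : phi h hX (k⁻¹ * x) = 1 := by rw [map_mul, map_inv, hkx, inv_mul_cancel]
  have h2 : ((k⁻¹ * x : X) : G) ∈ centralizer (U : Set G) := (phi_eq_one h hX).1 h1
  have h3 := mul_mem hk (s.cK ⟨(k⁻¹ * x).2, h2⟩)
  have e : (k : G) * ((k⁻¹ * x : X) : G) = x := by push_cast; group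
  rwa [e] at h3

theorem ne_bar : imx h X K ≠ ⊤ := by
  intro h0
  apply s.nK
  intro x hx
  have h1 : phi h hX ⟨x, hx⟩ ∈ imx h X K := by rw [h0]; exact mem_top _
  exact s.mem_K h hX h1

theorem uniq {P : Sylow 2 ↥(im h X)} (hP : (P : Subgroup ↥(im h X)) = imx h X T) (M : Subgroup ↥(im h X))
    (hPM : (P : Subgroup ↥(im h X)) ≤ M) (hM : M ≠ ⊤) : M ≤ imx h X K := by
  have h1 := s.min ((M.comap (phi h hX)).map X.subtype) (by
    intro t ht
    refine ⟨⟨t, s.syl.1 ht⟩, ?_, rfl⟩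
    apply hPM
    rw [hP]
    exact phi_mem_imx h hX ht) (map_subtype_le _) (fun h0 => hM (by
      rw [eq_top_iff]
      intro y _
      obtain ⟨x, rfl⟩ := phi_surjective h hX y
      have h2 : (x : G) ∈ (M.comap (phi h hX)).map X.subtype := by rw [h0]; exact x.2
      obtain ⟨x', hx', h3⟩ := h2
      rwa [Subtype.ext h3] at hx'))
  intro y hy
  obtain ⟨x, rfl⟩ := phi_surjective h hX y
  exact phi_mem_imx h hX (h1 ⟨x, hy, rfl⟩)

/-! ### `O₂(X̄)` -/

theorem cap_core : T ⊓ ((pCore 2 ↥(im h X)).comap (phi h hX)).map X.subtype ≤ o2 X := by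
  have hfact : Fact (Nat.Prime 2) := ⟨Nat.prime_two⟩
  have hN : (pCore 2 ↥(im h X)).Normal := Lib.Cores.pCore_normal 2
  have hN' : ((pCore 2 ↥(im h X)).comap (phi h hX)).Normal := hN.comap _
  have hXn : X ≤ normalizer ((((pCore 2 ↥(im h X)).comap (phi h hX)).map X.subtype : Subgroup G) : Set G) := by
    have h1 := (normalizer_eq_top_iff (H := (pCore 2 ↥(im h X)).comap (phi h hX))).2 hN'
    have h2 := le_normalizer_map (H := (pCore 2 ↥(im h X)).comap (phi h hX)) X.subtype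
    rw [h1, ← MonoidHom.range_eq_map, range_subtype] at h2
    exact h2
  rcases K0.min_or s.syl s.mp (map_subtype_le _) hXn with h1 | h1
  · exfalso
    apply s.nK
    rw [← oddGen_sup_syl s.syl]
    refine sup_le ?_ s.TK
    refine le_trans (le_inf (oddGen_le X) ?_) s.cK
    rw [MinSimple.VModule.oddGen_def, closure_le]
    rintro x ⟨hx, hodd⟩
    have h2 := h1 (MinSimple.VModule.mem_oddGen hx hodd)
    obtain ⟨x', hx', rfl⟩ := h2
    refine (phi_eq_one h hX).1 ?_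
    have h3 : IsPGroup 2 (pCore 2 ↥(im h X)) := Lib.Cores.pCore_isPGroup 2
    have h4 : orderOf (phi h hX x') ∣ orderOf x' := orderOf_map_dvd _ _
    have h5 : orderOf (x' : G) = orderOf x' := orderOf_coe x'
    obtain ⟨k, hk⟩ := IsPGroup.iff_orderOf.1 h3 ⟨phi h hX x', hx'⟩
    have h6 : orderOf (phi h hX x') = 2 ^ k := by rw [← hk]; exact (orderOf_mk _ _).symm
    have hodd' : Odd (orderOf (phi h hX x')) := Odd.of_dvd_nat (by
      rw [← h5]; exact hodd) h4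
    rw [h6] at hodd'
    rcases Nat.eq_zero_or_pos k with h7 | h7
    · rw [h7, pow_zero] at h6
      exact orderOf_eq_one_iff.1 h6
    · exact absurd hodd' (Nat.not_odd_iff_even.2 ((Nat.even_pow.2 ⟨even_two, h7.ne'⟩)))
  · exact h1

theorem nle_bar {A : Subgroup G} (hA : A ≤ T) (hQ : ¬ A ≤ o2 X) : ¬ imx h X A ≤ pCore 2 ↥(im h X) := by
  intro h0
  apply hQ
  intro a ha
  refine s.cap_core h hX ⟨hA ha, ⟨⟨a, s.syl.1 (hA ha)⟩, h0 ?_, rfl⟩⟩
  exact phi_mem_imx h hX ha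

theorem mbu {A : Subgroup G} (o : Opt U A) (hA : A ≤ T) (hQ : ¬ A ≤ o2 X) : MBU (MU s.cm) (imx h X A) where
  ea := SitR.ea_bar h hX o (hA.trans s.syl.1)
  nle := s.nle_bar h hX hA hQ
  off := SitR.off_bar h hX o (hA.trans s.syl.1) s.cm
  min := fun E h1 h2 => SitR.min_bar h hX o (hA.trans s.syl.1) s.cm E h1 h2

/-- **the input of THEOREM L with two lines** -/
theorem datW {P : Sylow 2 ↥(im h X)} (hP : (P : Subgroup ↥(im h X)) = imx h X T) :
    DatW P (imx h X K) (ad s.cm V) (ad s.cm L) (ad s.cm F) where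
  two := s.two
  faith := SitR.faith_x h s.cm
  SM := by
    rw [hP]; exact imx_mono h s.TK
  ne := s.ne_bar h hX
  uniq := s.uniq h hX hP
  SV := by
    rw [hP]
    intro y hy
    obtain ⟨x, hx, rfl⟩ := exists_of_mem_imx h hX s.syl.1 hy
    exact (phi_mem_nf_iff h hX s.VU).2 (s.TV hx)
  ML := by
    intro y hy
    obtain ⟨x, hx, rfl⟩ := exists_of_mem_imx h hX s.KX hy
    exact (phi_mem_nf_iff h hX (s.LV.trans s.VU)).2 (s.KL hx)
  LV := ad_mono s.LV
  FL := ad_mono s.FL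
  Fx := by
    intro y w hw
    obtain ⟨x, rfl⟩ := phi_surjective h hX y
    refine (phi_smul_eq_iff h hX).2 ?_
    exact (mem_centralizer_iff.1 (s.XF x.2) _ hw).symm
  ti := by
    intro y hy
    obtain ⟨x, rfl⟩ := phi_surjective h hX y
    have h1 := ad_mono (hc := s.cm) (s.ti x x.2 fun h0 => hy (phi_mem_imx h hX h0))
    rw [ad_inf, ← sm_phi h hX] at h1
    exact h1
  nz := by
    intro h0
    apply s.nz
    intro v hv
    have h1 : Bridge.mk s.cm ((s.LV.trans s.VU) hv) ∈ ad s.cm F := h0 hv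
    exact h1
  nffV := by
    intro A hA hea hne
    obtain ⟨A₀, hA₀, rfl, hmem⟩ := s.exists_lift h hX hP hA
    have hA₀X : A₀ ≤ X := hA₀.trans s.syl.1
    refine card_bar h hX s.VU hA₀X (s.nffV A₀ hA₀ ?_ ?_ ?_)
    · intro a ha
      have h1 := hea _ (hmem ⟨a, hA₀X ha⟩ ha)
      rw [← map_mul, phi_eq_one] at h1
      rw [pow_two]
      exact centralizer_le s.VU h1
    · intro a ha b hb
      have h1 := hea _ (hmem ⟨a, hA₀X ha⟩ ha)
      have h2 := hea _ (hmem ⟨b, hA₀X hb⟩ hb)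
      have h3 := hea _ (hmem (⟨a, hA₀X ha⟩ * ⟨b, hA₀X hb⟩) (mul_mem ha hb))
      have h4 : phi h hX (⟨a, hA₀X ha⟩ * ⟨b, hA₀X hb⟩ * ⟨a, hA₀X ha⟩⁻¹ * ⟨b, hA₀X hb⟩⁻¹) = 1 := by
        rw [map_mul] at h3
        rw [map_mul, map_mul, map_mul, map_inv, map_inv, inv_eq_of_mul_eq_one_left h1, inv_eq_of_mul_eq_one_left h2]
        rw [mul_assoc _ (phi h hX ⟨a, _⟩) (phi h hX ⟨b, _⟩)]
        exact h3
      rw [phi_eq_one] at h4
      exact centralizer_le s.VU h4
    · intro h0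
      apply hne
      intro y hy
      obtain ⟨x, hx, rfl⟩ := exists_of_mem_imx h hX hA₀X hy
      exact (phi_mem_cf_iff h hX s.VU).2 (h0 hx)
  nffL := by
    intro A hA hF hne
    obtain ⟨A₀, hA₀, rfl, hmem⟩ := s.exists_lift h hX hP hA
    have hA₀X : A₀ ≤ X := hA₀.trans s.syl.1
    refine card_bar h hX (s.LV.trans s.VU) hA₀X (s.nffL A₀ hA₀ ?_ ?_)
    · intro a ha v hv
      have h1 := hF _ (hmem ⟨a, hA₀X ha⟩ ha) (Bridge.mk s.cm (s.VU hv)) hv
      rw [mem_ad, val_phi_sub] at h1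
      exact h1
    · intro h0
      apply hne
      intro y hy
      obtain ⟨x, hx, rfl⟩ := exists_of_mem_imx h hX hA₀X hy
      exact (phi_mem_cf_iff h hX (s.LV.trans s.VU)).2 (h0 hx)

omit h hX in
/-- **`V = L`** -/
theorem eq {A : Subgroup G} (o : Opt U A) (hA : A ≤ T) (hQ : ¬ A ≤ o2 X) : V = L := by
  have h : X ≤ normalizer (U : Set G) := s.XU
  obtain ⟨P, hP⟩ := s.exists_syl h le_rfl
  have h1 := (s.datW h le_rfl hP).eq (s.mbu h le_rfl o hA hQ)
  exact (ad_inj s.VU (s.LV.trans s.VU)).1 h1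

end SitW

end Cfsg.Agent.Omega.NO3b.Base
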