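import Cfsg.Agent.Omega.NO3b.Base.MovePt
import Cfsg.Agent.Omega.NO3b.Base.SitW

/-!
# `C_G(D) ≤ N_G(Lb D)` for all `Z ≤ D ≤ V` (#22211, helper16; #22310, helper506)

* `MxL.sitW` : the minimal `Y` acts on `⟨V^⟨S,Y⟩⟩` with the two lines `Lb D ≤ V`; `MxL.V_eq` : `V = Lb D`;
* **`MPt.cent_le`** : `C_G(D) ≤ N_G(Lb D)` for all `Z ≤ D ≤ V`, if LEMMA OZ holds for the panels over `B` in `C_G(Z)`;
* `MPt.cent_le_of_oz` (`V` maximal), `MPt.cent_le_of_last` (the last stage of a chain whose steps are all `PanZ`).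
-/

set_option autoImplicit false

namespace Cfsg.Agent.Omega.NO3b.Base

open Subgroup Cfsg
open Cfsg.Agent.ZN (o2 zc zl jj zj)
open Cfsg.Agent.ZN.ChoiceBase hiding mem_zc
open Cfsg.Agent.ZN.ChoiceSit (Syl exists_syl syl_conj o2_le_syl syl_not_dvd)
open Cfsg.Agent.Omega.NO3b.EZero (NotFF cent_symm cj_cent cj_norm cj_eq_cj_iff cl le_cl cj_le_cl cl_le
  le_normalizer_cl le_normalizer_inf_cent oddGen_sup_syl isPGroup_Q0)
open Cfsg.Agent.Omega.NOThreeL.Star (Opt Ok exists_opt ff)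
open Cfsg.Agent.Omega.NO3b.NoEmp (Lines)
open Cfsg.Agent.Omega.NO3b.Wc
open Cfsg.Agent.Omega.NO3b.Exit
open Cfsg.Agent.MinSimple.MinParabolic (IsMinPar)

universe u

variable {G : Type u} [Group G] [Finite G] {S : Sylow 2 G} {B V : Subgroup G} {Lb : Subgroup G → Subgroup G}

namespace MxL

variable {D T Y : Subgroup G} (m : MxL S V Lb D T Y) (q : MPt S B V Lb) (l : Lines S B V)
include m q l

theorem sitW (hG : IsCharacteristicTwoType G) (hSne : (S : Subgroup G) ≠ ⊥)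
    (cs : (S : Subgroup G) ⊓ centralizer (V : Set G) = B) :
    SitW V (Lb D) D T Y (Y ⊓ normalizer (Lb D : Set G)) (cl V ((S : Subgroup G) ⊔ Y)) where
  cm := cl_comm l (m.panZ q l cs).SX_cent hG hSne
  sq := cl_sq l (m.panZ q l cs).SX_cent hG hSne
  VU := le_cl _ _
  XU := le_sup_right.trans (le_normalizer_cl _ _)
  LV := q.leV D m.ZD m.DV
  FL := q.le D m.ZD m.DV
  nz := m.nleD
  XF := m.YD
  syl := m.sylY
  mp := m.isMinPar q l cs
  TV := m.T_le.trans l.S_le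
  TK := le_inf m.TY (m.min T le_rfl m.TY fun h0 => by
    have h1 := (m.isMinPar q l cs).not_le
    rw [← h0] at h1
    exact h1 Subgroup.le_normalizer)
  KX := inf_le_left
  KL := inf_le_right
  cK := by
    refine le_inf inf_le_left ?_
    refine le_trans (le_inf (inf_le_left.trans m.YD) ?_) (q.stab l m.ZD m.DV)
    exact (inf_le_right.trans (centralizer_le (le_cl _ _))).trans (centralizer_le_normalizer _)
  nK := fun h0 => m.nle (h0.trans inf_le_right)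
  min := fun M h1 h2 h3 => le_inf h2 (m.min M h1 h2 h3)
  ti := fun x hx hn => m.line q l hx fun h0 => hn ⟨hx, h0⟩
  nffV := fun A hA hsq hcm hne => l.nff A (m.syl.2.1.to_le hA) ((hA.trans m.T_le).trans l.S_le) hsq hcm hne
  nffL := fun A hA hF hne => q.nfl D m.ZD m.DV (fun h0 => m.nleV q l (m.YD.trans h0)) A (hA.trans m.T_le)
    (hA.trans (m.TY.trans m.YD)) hF hne

/-- **`V = Lb D`** (THEOREM L with two lines) -/
theorem V_eq (hG : IsCharacteristicTwoType G) (hSne : (S : Subgroup G) ≠ ⊥)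
    (cs : (S : Subgroup G) ⊓ centralizer (V : Set G) = B) {A : Subgroup G}
    (hA : Opt (cl V ((S : Subgroup G) ⊔ Y)) A) (hAT : A ≤ T) (hAY : ¬ A ≤ o2 Y) : V = Lb D :=
  (m.sitW q l hG hSne cs).eq hA hAT hAY

end MxL

/-- **`C_G(D) ≤ N_G(Lb D)` for all `Z ≤ D ≤ V`.** -/
theorem MPt.cent_le (q : MPt S B V Lb) (hG : IsCharacteristicTwoType G) (hSne : (S : Subgroup G) ≠ ⊥)
    (l : Lines S B V) (cs : (S : Subgroup G) ⊓ centralizer (V : Set G) = B)
    (oz : ∀ T Y : Subgroup G, PanZ S B V T Y →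
      ∃ A, Opt (cl V ((S : Subgroup G) ⊔ Y)) A ∧ A ≤ B ∧ ¬ A ≤ o2 Y)
    {D : Subgroup G} (hZ : zc (S : Subgroup G) ≤ D) (hD : D ≤ V) :
    centralizer (D : Set G) ≤ normalizer (Lb D : Set G) := by
  by_contra hn
  obtain ⟨D', T, Y, m⟩ := exists_mx l q hZ hD hn
  have p := m.panZ q l cs
  obtain ⟨A, hA, hAB, hAY⟩ := oz T Y p
  have hV := m.V_eq q l hG hSne cs hA (hAB.trans p.BT) hAY
  exact q.prop D' m.ZD m.DV (fun h0 => m.nleV q l (m.YD.trans h0)) hV.symm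

/-- `C_G(Z) ≤ N_G(Lb Z)` -/
theorem MPt.cent_zc_le (q : MPt S B V Lb) (hG : IsCharacteristicTwoType G) (hSne : (S : Subgroup G) ≠ ⊥)
    (l : Lines S B V) (cs : (S : Subgroup G) ⊓ centralizer (V : Set G) = B)
    (oz : ∀ T Y : Subgroup G, PanZ S B V T Y →
      ∃ A, Opt (cl V ((S : Subgroup G) ⊔ Y)) A ∧ A ≤ B ∧ ¬ A ≤ o2 Y) :
    centralizer (zc (S : Subgroup G) : Set G) ≤ normalizer (Lb (zc (S : Subgroup G)) : Set G) :=
  q.cent_le hG hSne l cs oz le_rfl l.ZV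

/-- with LEMMA OZ -/
theorem MPt.cent_le_of_oz (q : MPt S B V Lb) {Z₁ : Subgroup G} (o : OZ S Z₁ B V)
    (hG : IsCharacteristicTwoType G) (hOff : StmtOff G) (hSne : (S : Subgroup G) ≠ ⊥)
    {D : Subgroup G} (hZ : zc (S : Subgroup G) ≤ D) (hD : D ≤ V) :
    centralizer (D : Set G) ≤ normalizer (Lb D : Set G) :=
  q.cent_le hG hSne o.lines o.cs (fun _ _ p => p.exists_optY o hG hOff hSne) hZ hD

/-- at the last stage of a chain with the steps `PanZ` (`PanZ.step_of`) -/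
theorem MPt.cent_le_of_last (q : MPt S B V Lb) {Z₁ : Subgroup G} (hG : IsCharacteristicTwoType G)
    (hOff : StmtOff G) (hSne : (S : Subgroup G) ≠ ⊥) (l : Lines S B V)
    (cs : (S : Subgroup G) ⊓ centralizer (V : Set G) = B) (eq : V = cl Z₁ (normalizer (B : Set G)))
    (zZ : zc (S : Subgroup G) ≤ Z₁)
    (last : ∀ T X : Subgroup G, PanZ S B V T X →
      (∃ R : Subgroup G, R ≠ ⊥ ∧ IsPGroup 2 R ∧ normalizer (B : Set G) ≤ normalizer (R : Set G) ∧
        X ≤ normalizer (R : Set G)) →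
      NotFF (cl Z₁ (normalizer (B : Set G) ⊔ X)) →
      ¬ cl Z₁ (normalizer (B : Set G) ⊔ X) ≤ o2 (centralizer (zc (S : Subgroup G) : Set G)))
    {D : Subgroup G} (hZ : zc (S : Subgroup G) ≤ D) (hD : D ≤ V) :
    centralizer (D : Set G) ≤ normalizer (Lb D : Set G) := by
  refine q.cent_le hG hSne l cs (fun T Y p => p.exists_opt_of_ff l cs hG hSne fun hn => ?_) hZ hD
  obtain ⟨h1, h2, h3⟩ := p.step_of l cs eq zZ hG hOff hSne hn
  exact last T Y p h1 h2 h3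

end Cfsg.Agent.Omega.NO3b.Base
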