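import Cfsg.Agent.Omega.NO3b.Base.MoveCent
import Cfsg.Agent.Omega.NO3b.Base.Inst

/-!
# `C_G(D) ≤ N_G(Lb D)` for `LocG`
-/

set_option autoImplicit false

namespace Cfsg.Agent.Omega.NO3b.Base

open Subgroup Cfsg
open Cfsg.Agent.ZN (o2 zc zl)
open Cfsg.Agent.Omega.NO3b.Exit (Adm VB)
open Cfsg.Agent.Omega.NOThreeL.HypGFrame (LocG)

universe u

variable {G : Type u} [Group G] [Finite G] {S : Sylow 2 G} {M B : Subgroup G} {Lb : Subgroup G → Subgroup G}

/-- **`C_G(D) ≤ N_G(Lb D)`** for `LocG` -/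
theorem move_of_locG (h : LocG S M B) (q : MPt S B (VB (S : Subgroup G) B) Lb)
    (hG : IsCharacteristicTwoType G) (hSne : (S : Subgroup G) ≠ ⊥) {D : Subgroup G}
    (hZ : zc (S : Subgroup G) ≤ D) (hD : D ≤ VB (S : Subgroup G) B) :
    centralizer (D : Set G) ≤ normalizer (Lb D : Set G) :=
  q.cent_le_of_oz (oz_of_locG h) hG (NO3b.Final.stmtOff G) hSne hZ hD

/-- **`C_G(Z) ≤ N_G(Lb Z)`** for `LocG` -/
theorem move_zc_of_locG (h : LocG S M B) (q : MPt S B (VB (S : Subgroup G) B) Lb)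
    (hG : IsCharacteristicTwoType G) (hSne : (S : Subgroup G) ≠ ⊥) :
    centralizer (zc (S : Subgroup G) : Set G) ≤ normalizer (Lb (zc (S : Subgroup G)) : Set G) :=
  move_of_locG h q hG hSne le_rfl (oz_of_locG h).lines.ZV

end Cfsg.Agent.Omega.NO3b.Base
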