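import Cfsg.Agent.Omega.NO3b.Base.OZ

/-!
# The moving base point (#22211, helper16; #22310, helper506): `C_G(D) ≤ N_G(Lb D)` for all `Z ≤ D ≤ V`

`Lines S B V`, `B = C_S(V)`, `Z = Ω₁(Z(S))`. `MPt S B V Lb` : to every `Z ≤ D ≤ V` belongs a subgroup `Lb D`,
`D ≤ Lb D ≤ V`, monotone in `D`, `C_G(Z) ∩ N_G(B)`-equivariant, `Lb D ≠ V` if `C_G(D) ≰ N_G(V)`, and the subgroups `A`
of `C_S(D)` with `[V, A] ≤ D` do not offend on `Lb D`.

* `exists_mx` : `D` maximal with `C_G(D) ≰ N_G(Lb D)`, `T = C_S(D)` Sylow in `C_G(D)`, `Y ≥ T` minimal in `C_G(D)` with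
  `Y ≰ N_G(Lb D)` (`MxL S V Lb D T Y`);
* `MxL.line` : `V ∩ V^y ≤ D` for `y ∈ Y - N_G(Lb D)`; `MxL.panZ` : LEMMA OZ applies to `Y`.
-/

set_option autoImplicit false

namespace Cfsg.Agent.Omega.NO3b.Base

open Subgroup Cfsg
open Cfsg.Agent.ZN (o2 zc zl jj zj)
open Cfsg.Agent.ZN.ChoiceBase hiding mem_zc
open Cfsg.Agent.ZN.ChoiceSit (Syl exists_syl syl_conj o2_le_syl syl_not_dvd)
open Cfsg.Agent.MinSimple.EmptyTI (syl_of_le)
open Cfsg.Agent.Omega.NO3b.EZero (NotFF cent_symm cj_cent cj_norm cj_eq_cj_iff cl le_cl cj_le_cl cl_le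
  le_normalizer_cl le_normalizer_inf_cent oddGen_sup_syl isPGroup_Q0)
open Cfsg.Agent.Omega.NO3b.NoEmp (Lines)
open Cfsg.Agent.MinSimple.MinParabolic (IsMinPar)
open Cfsg.Agent.MinSimple.VModule (le_centralizer_zc le_normalizer_o2 o2_isPGroup oddGen oddGen_le)

universe u

variable {G : Type u} [Group G] [Finite G] {S : Sylow 2 G} {B V : Subgroup G} {Lb : Subgroup G → Subgroup G}

/-- The moving base point. -/
structure MPt (S : Sylow 2 G) (B V : Subgroup G) (Lb : Subgroup G → Subgroup G) : Prop where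
  le : ∀ D : Subgroup G, zc (S : Subgroup G) ≤ D → D ≤ V → D ≤ Lb D
  leV : ∀ D : Subgroup G, zc (S : Subgroup G) ≤ D → D ≤ V → Lb D ≤ V
  mono : ∀ D D' : Subgroup G, zc (S : Subgroup G) ≤ D → D ≤ D' → D' ≤ V → Lb D ≤ Lb D'
  eqv : ∀ D : Subgroup G, zc (S : Subgroup G) ≤ D → D ≤ V → ∀ m : G,
    m ∈ centralizer (zc (S : Subgroup G) : Set G) → m ∈ normalizer (B : Set G) → Lb (cj m D) = cj m (Lb D)
  prop : ∀ D : Subgroup G, zc (S : Subgroup G) ≤ D → D ≤ V →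
    ¬ centralizer (D : Set G) ≤ normalizer (V : Set G) → Lb D ≠ V
  nfl : ∀ D : Subgroup G, zc (S : Subgroup G) ≤ D → D ≤ V →
    ¬ centralizer (D : Set G) ≤ normalizer (V : Set G) →
    ∀ A : Subgroup G, A ≤ (S : Subgroup G) → A ≤ centralizer (D : Set G) →
    (∀ a ∈ A, ∀ v ∈ V, a * v * a⁻¹ * v⁻¹ ∈ D) → ¬ A ≤ centralizer (Lb D : Set G) →
    (centralizer (Lb D : Set G)).relIndex A < (centralizer (A : Set G)).relIndex (Lb D)

/-- `N_G(P) ≤ N_G(B)` for a 2-group `P ≥ B`. -/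
theorem norm_le_normB (l : Lines S B V) {P : Subgroup G} (hP : IsPGroup 2 P) (hBP : B ≤ P) :
    normalizer (P : Set G) ≤ normalizer (B : Set G) := by
  obtain ⟨a, h1, h2, -⟩ := l.exists_point hP (a := 1) (by rw [cj_one]; exact hBP)
  rw [cj_one] at h2
  intro t ht
  rw [mem_normalizer_iff_cj]
  have h3 : cj (a⁻¹ * t) B ≤ (S : Subgroup G) := by
    have h4 := cj_mono t hBP
    rw [mem_normalizer_iff_cj.1 ht] at h4
    have h5 := cj_mono a⁻¹ (h4.trans h1)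
    rwa [cj_cj, cj_inv_cj] at h5
  have h4 := l.wc _ h3
  have h5 : a⁻¹ ∈ normalizer (B : Set G) := inv_mem (mem_normalizer_iff_cj.2 h2)
  have h6 : a * (a⁻¹ * t) ∈ normalizer (B : Set G) := mul_mem (mem_normalizer_iff_cj.2 h2)
    (mem_normalizer_iff_cj.2 h4)
  rw [mul_inv_cancel_left] at h6
  exact mem_normalizer_iff_cj.1 h6

/-- Frattini: `X = C_X(E) (X ∩ N_G(B))` for `X ≥ C_G(V)`, `E ≤ V` normal in `X`. -/
theorem frat (l : Lines S B V) {X E : Subgroup G} (hBX : B ≤ X) (hEV : E ≤ V)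
    (hXE : X ≤ normalizer (E : Set G)) {c : G} (hc : c ∈ X) :
    ∃ k ∈ X ⊓ centralizer (E : Set G), ∃ n ∈ X ⊓ normalizer (B : Set G), c = k * n := by
  have hB : B ≤ X ⊓ centralizer (E : Set G) := le_inf hBX (l.JV.trans (centralizer_le hEV))
  obtain ⟨P, hP, hBP⟩ := exists_syl (S.isPGroup'.to_le l.JS) hB
  have hn : X ≤ normalizer ((X ⊓ centralizer (E : Set G) : Subgroup G) : Set G) := le_normalizer_inf_cent hXE
  have h1 : Syl (cj c P) (X ⊓ centralizer (E : Set G)) := by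
    have hC : X ⊓ centralizer (E : Set G) = cj c (X ⊓ centralizer (E : Set G)) :=
      (cj_eq_of_mem_normalizer (hn hc)).symm
    rw [hC]
    refine ⟨cj_mono _ hP.1, isPGroup_cj _ hP.2.1, fun Q hQ hp hle => ?_⟩
    have h2 := hP.2.2 (cj c⁻¹ Q) (by
      rw [cj_le_iff, inv_inv]; exact hQ) (isPGroup_cj _ hp) (by
      have h3 := cj_mono c⁻¹ hle
      rwa [cj_inv_cj] at h3)
    rw [← h2, cj_cj_inv]
  obtain ⟨k, hk, hkP⟩ := syl_conj h1 hP
  rw [cj_cj] at hkP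
  have h2 : k * c ∈ normalizer (P : Set G) := mem_normalizer_iff_cj.2 hkP
  refine ⟨k⁻¹, inv_mem hk, k * c, ⟨mul_mem hk.1 hc, norm_le_normB l hP.2.1 hBP h2⟩, by group⟩

namespace MPt

variable (q : MPt S B V Lb) (l : Lines S B V)
include q l

/-- `C_G(D) ∩ N_G(V) ≤ N_G(Lb D)` -/
theorem stab {D : Subgroup G} (hZ : zc (S : Subgroup G) ≤ D) (hD : D ≤ V) :
    centralizer (D : Set G) ⊓ normalizer (V : Set G) ≤ normalizer (Lb D : Set G) := by
  intro c hc
  obtain ⟨k, hk, n, hn, rfl⟩ := frat l (X := centralizer (D : Set G) ⊓ normalizer (V : Set G)) (E := V)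
    (le_inf (l.JV.trans (centralizer_le hD)) (l.JV.trans (centralizer_le_normalizer _))) le_rfl inf_le_right hc
  refine mul_mem ?_ ?_
  · exact centralizer_le_normalizer _ (centralizer_le (q.leV D hZ hD) hk.2)
  · have h1 := q.eqv D hZ hD n (centralizer_le hZ hn.1.1) hn.2
    rw [cj_eq_of_mem_normalizer (centralizer_le_normalizer _ hn.1.1)] at h1
    exact mem_normalizer_iff_cj.2 h1.symm

end MPt

/-- `D` maximal in `V` with `Z ≤ D`, `C_G(D) ≰ N_G(Lb D)`; `T ≤ S` Sylow in `C_G(D)`; `Y ≥ T` minimal in `C_G(D)` with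
`Y ≰ N_G(Lb D)`. -/
structure MxL (S : Sylow 2 G) (V : Subgroup G) (Lb : Subgroup G → Subgroup G) (D T Y : Subgroup G) : Prop where
  ZD : zc (S : Subgroup G) ≤ D
  DV : D ≤ V
  max : ∀ D' : Subgroup G, D ≤ D' → D' ≤ V → D' ≠ D → centralizer (D' : Set G) ≤ normalizer (Lb D' : Set G)
  T_le : T ≤ (S : Subgroup G)
  syl : Syl T (centralizer (D : Set G))
  TY : T ≤ Y
  YD : Y ≤ centralizer (D : Set G)
  nle : ¬ Y ≤ normalizer (Lb D : Set G)
  min : ∀ M : Subgroup G, T ≤ M → M ≤ Y → M ≠ Y → M ≤ normalizer (Lb D : Set G)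

/-- **`D`, `T`, `Y` exist.** -/
theorem exists_mx (l : Lines S B V) (q : MPt S B V Lb) {D₁ : Subgroup G} (hZ₁ : zc (S : Subgroup G) ≤ D₁)
    (hV₁ : D₁ ≤ V) (hn : ¬ centralizer (D₁ : Set G) ≤ normalizer (Lb D₁ : Set G)) :
    ∃ D T Y, MxL S V Lb D T Y := by
  obtain ⟨F, hF, hmax⟩ := Set.exists_max_image
    {F : Subgroup G | zc (S : Subgroup G) ≤ F ∧ F ≤ V ∧ ¬ centralizer (F : Set G) ≤ normalizer (Lb F : Set G)}
    (fun F => Nat.card F) (Set.toFinite _) ⟨_, hZ₁, hV₁, hn⟩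
  have hJ : B ≤ centralizer (F : Set G) := l.JV.trans (centralizer_le hF.2.1)
  obtain ⟨T, hT, hJT⟩ := exists_syl (S.isPGroup'.to_le l.JS) hJ
  have hTB : T ≤ normalizer (B : Set G) := Subgroup.le_normalizer.trans (norm_le_normB l hT.2.1 hJT)
  have hTZ : T ≤ centralizer (zc (S : Subgroup G) : Set G) := hT.1.trans (centralizer_le hF.1)
  obtain ⟨T₁, hT₁, hTT₁⟩ := exists_syl hT.2.1 (le_inf hTZ hTB)
  obtain ⟨c, hc, hcT⟩ := syl_conj hT₁ (syl_of_le (le_inf (Alpha.zc_cent (S := S)) l.S_le_NJ))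
  have hcV : cj c V = V := mem_normalizer_iff_cj.1 (l.NJ hc.2)
  have hcZ : cj c (zc (S : Subgroup G)) = zc (S : Subgroup G) :=
    cj_eq_of_mem_normalizer (centralizer_le_normalizer _ hc.1)
  have hZ : zc (S : Subgroup G) ≤ cj c F := by
    have h1 := cj_mono c hF.1
    rwa [hcZ] at h1
  have hFV : cj c F ≤ V := by
    have h1 := cj_mono c hF.2.1
    rwa [hcV] at h1
  have hL : Lb (cj c F) = cj c (Lb F) := q.eqv F hF.1 hF.2.1 c hc.1 hc.2
  have hnle : ¬ centralizer ((cj c F : Subgroup G) : Set G) ≤ normalizer (Lb (cj c F) : Set G) := by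
    intro h0
    apply hF.2.2
    rw [hL, ← cj_centralizer, ← cj_normalizer] at h0
    have h1 := cj_mono c⁻¹ h0
    rwa [cj_inv_cj, cj_inv_cj] at h1
  have hsyl : Syl (cj c T) (centralizer ((cj c F : Subgroup G) : Set G)) := by
    have hC : centralizer ((cj c F : Subgroup G) : Set G) = cj c (centralizer (F : Set G)) :=
      (cj_centralizer _ _).symm
    rw [hC]
    refine ⟨cj_mono _ hT.1, isPGroup_cj _ hT.2.1, fun Q hQ hp hle => ?_⟩
    have h2 := hT.2.2 (cj c⁻¹ Q) (by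
      rw [cj_le_iff, inv_inv]; exact hQ) (isPGroup_cj _ hp) (by
      have h3 := cj_mono c⁻¹ hle
      rwa [cj_inv_cj] at h3)
    rw [← h2, cj_cj_inv]
  obtain ⟨Y, hY, hmin⟩ := Set.exists_min_image {P : Subgroup G | cj c T ≤ P ∧
      P ≤ centralizer ((cj c F : Subgroup G) : Set G) ∧ ¬ P ≤ normalizer (Lb (cj c F) : Set G)}
    (fun P => Nat.card P) (Set.toFinite _) ⟨_, hsyl.1, le_rfl, hnle⟩
  refine ⟨cj c F, cj c T, Y, ⟨hZ, hFV, fun D' h1 h2 h3 => ?_, (cj_mono c hTT₁).trans hcT.le, hsyl, hY.1, hY.2.1,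
    hY.2.2, fun M hTM hMP hne => ?_⟩⟩
  · by_contra hcon
    refine h3 (eq_of_le_of_card_ge h1 ?_).symm
    rw [card_cj]
    exact hmax D' ⟨hZ.trans h1, h2, hcon⟩
  · by_contra hcon
    exact hne (eq_of_le_of_card_ge hMP (hmin M ⟨hTM, hMP.trans hY.2.1, hcon⟩))

namespace MxL

variable {D T Y : Subgroup G} (m : MxL S V Lb D T Y)
include m

omit [Finite G] in
theorem YZ : Y ≤ centralizer (zc (S : Subgroup G) : Set G) := m.YD.trans (centralizer_le m.ZD)

omit [Finite G] in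
theorem T_eq : (S : Subgroup G) ⊓ centralizer (D : Set G) = T :=
  m.syl.2.2 _ inf_le_right (S.isPGroup'.to_le inf_le_left) (le_inf m.T_le m.syl.1)

omit [Finite G] in
theorem sylY : Syl T Y := ⟨m.TY, m.syl.2.1, fun Q hQ hp hle => m.syl.2.2 Q (hQ.trans m.YD) hp hle⟩

omit [Finite G] in
theorem cs_le : (S : Subgroup G) ⊓ centralizer (V : Set G) ≤ T := by
  rw [← m.T_eq]
  exact inf_le_inf_left _ (centralizer_le m.DV)

omit [Finite G] in
theorem cjD {y : G} (hy : y ∈ Y) : cj y D = D :=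
  cj_eq_of_mem_normalizer (centralizer_le_normalizer _ (m.YD hy))

omit [Finite G] in
theorem nleD : ¬ Lb D ≤ D := fun h0 =>
  m.nle (m.YD.trans ((centralizer_le h0).trans (centralizer_le_normalizer _)))

variable (q : MPt S B V Lb) (l : Lines S B V)
include q l

theorem nleV : ¬ Y ≤ normalizer (V : Set G) := fun h0 => m.nle ((le_inf m.YD h0).trans (q.stab l m.ZD m.DV))

/-- `V ∩ V^y ≤ D` for `y ∈ Y - N_G(Lb D)` -/
theorem line {y : G} (hy : y ∈ Y) (hyD : y ∉ normalizer (Lb D : Set G)) : V ⊓ cj y V ≤ D := by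
  have hD : D ≤ V ⊓ cj y V := by
    refine le_inf m.DV ?_
    have h1 := cj_mono y m.DV
    rwa [m.cjD hy] at h1
  by_cases hne : V ⊓ cj y V = D
  · exact hne.le
  exfalso
  apply hyD
  obtain ⟨c, hc, hcy⟩ := Alpha.exists_c l (D := V ⊓ cj y V) inf_le_left inf_le_right
  have hcD : c ∈ centralizer (D : Set G) := centralizer_le hD hc
  have h1 : c⁻¹ * y ∈ normalizer (V : Set G) := cj_eq_cj_iff.1 hcy.symm
  have h0 : c⁻¹ * y ∈ centralizer (D : Set G) := mul_mem (inv_mem hcD) (m.YD hy)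
  have h2 := q.stab l m.ZD m.DV ⟨h0, h1⟩
  have hc' : c ∈ normalizer (Lb D : Set G) := by
    have hX := m.max _ hD inf_le_left hne
    obtain ⟨k, hk, n, hn, rfl⟩ := frat l (X := centralizer ((V ⊓ cj y V : Subgroup G) : Set G))
      (E := Lb (V ⊓ cj y V)) (l.JV.trans (centralizer_le inf_le_left))
      (q.leV _ (m.ZD.trans hD) inf_le_left) hX hc
    refine mul_mem ?_ ?_
    · exact centralizer_le_normalizer _ (centralizer_le (q.mono D _ m.ZD hD inf_le_left) hk.2)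
    · exact q.stab l m.ZD m.DV ⟨centralizer_le hD hn.1, l.NJ hn.2⟩
  have h3 := mul_mem hc' h2
  rwa [mul_inv_cancel_left] at h3

/-- `Y` is a minimal parabolic over `T`. -/
theorem isMinPar (cs : (S : Subgroup G) ⊓ centralizer (V : Set G) = B) : IsMinPar T Y := by
  refine ⟨m.TY, fun h0 => m.nle ?_, Y ⊓ normalizer (Lb D : Set G), ?_, fun K hK hKP =>
    le_inf hKP.le (m.min K hK hKP.le hKP.ne)⟩
  · have h1 : Y ≤ normalizer (V : Set G) := h0.trans ((Alpha.normalizer_le l m.T_le (by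
      rw [← cs]; exact m.cs_le)).trans l.NJ)
    exact (le_inf m.YD h1).trans (q.stab l m.ZD m.DV)
  · exact lt_of_le_of_ne inf_le_left fun h1 => m.nle (inf_eq_left.1 h1)

/-- The panel of LEMMA OZ. -/
theorem panZ (cs : (S : Subgroup G) ⊓ centralizer (V : Set G) = B) : PanZ S B V T Y where
  TS := m.T_le
  BT := by rw [← cs]; exact m.cs_le
  syl := m.sylY
  mp := m.isMinPar q l cs
  XZ := m.YZ
  nle := m.nleV q l

end MxL

end Cfsg.Agent.Omega.NO3b.Base
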